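import Mathlib
import Groth.Agent.Lib.WeilExt.Global
import Groth.Agent.Lib.Curve17.Glue

/-!
Extension of sections over points whose local ring is a valuation ring (EGA II 7.3.5, 7.3.6).
-/

universe u

open CategoryTheory CategoryTheory.Limits AlgebraicGeometry TopologicalSpace IsLocalRing

namespace Groth.Agent.DVRVal

set_option backward.isDefEq.respectTransparency false in
/-- A generic section over a valuation ring extends along a specialization over the closed point. -/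
theorem exists_section_of_specializes {A : Type u} [CommRing A] [IsDomain A] [ValuationRing A]
    {K : Type u} [Field K] [Algebra A K] [IsFractionRing A K] {X : Scheme.{u}}
    (f : X ⟶ Spec (CommRingCat.of A)) (x : Spec (CommRingCat.of K) ⟶ X)
    (hx : x ≫ f = Spec.map (CommRingCat.ofHom (algebraMap A K))) (z : X)
    (h₁ : x (closedPoint K) ⤳ z) (h₂ : f z = closedPoint A) :
    ∃ s : Spec (CommRingCat.of A) ⟶ X,
      s ≫ f = 𝟙 _ ∧ Spec.map (CommRingCat.ofHom (algebraMap A K)) ≫ s = x := by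
  have : IsDomain (CommRingCat.of A) := ‹_›
  have : ValuationRing (CommRingCat.of A) := ‹_›
  let : Field (CommRingCat.of K) := ‹_›
  let e : CommRingCat.of A ≅ (Spec <| .of A).presheaf.stalk (f z) :=
    (stalkClosedPointIso (.of A)).symm ≪≫
      (Spec <| .of A).presheaf.stalkCongr (.of_eq h₂.symm)
  let α := e.hom ≫ f.stalkMap z
  have : IsLocalHom e.hom.hom := isLocalHom_of_isIso e.hom
  have : IsLocalHom α.hom := inferInstanceAs (IsLocalHom ((f.stalkMap z).hom.comp e.hom.hom))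
  let β := X.presheaf.stalkSpecializes h₁ ≫ Scheme.stalkClosedPointTo x
  have hαβ : α ≫ β = CommRingCat.ofHom (algebraMap A K) := by
    simp only [CommRingCat.coe_of, Iso.trans_hom, Iso.symm_hom, TopCat.Presheaf.stalkCongr_hom,
      Category.assoc, α, e, β, stalkClosedPointIso_inv, StructureSheaf.toStalk]
    change (Scheme.ΓSpecIso (.of A)).inv ≫ (Spec <| .of A).presheaf.germ _ _ _ ≫ _ = _
    simp only [TopCat.Presheaf.germ_stalkSpecializes_assoc, Scheme.Hom.germ_stalkMap_assoc]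
    simp only [TopologicalSpace.Opens.map_top]
    rw [Scheme.germ_stalkClosedPointTo x ⊤ trivial]
    erw [← Scheme.Hom.comp_app_assoc x f]
    rw [hx]
    simp
  have hbij := (bijective_rangeRestrict_comp_of_valuationRing (R := A) (K := K) α.hom β.hom
    (CommRingCat.hom_ext_iff.mp hαβ))
  let φ : X.presheaf.stalk z ⟶ CommRingCat.of A := CommRingCat.ofHom <|
    (RingEquiv.ofBijective _ hbij).symm.toRingHom.comp β.hom.rangeRestrict
  have hαφ : α ≫ φ = 𝟙 _ := by ext a; exact (RingEquiv.ofBijective _ hbij).symm_apply_apply a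
  have hαφ' : f.stalkMap z ≫ φ = e.inv := by
    rw [← cancel_epi e.hom, ← Category.assoc, hαφ, e.hom_inv_id]
  have hφβ : φ ≫ CommRingCat.ofHom (algebraMap A K) = β :=
    hαβ ▸ CommRingCat.hom_ext (RingHom.ext fun a ↦ congr_arg Subtype.val
      ((RingEquiv.ofBijective _ hbij).apply_symm_apply (β.hom.rangeRestrict a)))
  refine ⟨Spec.map φ ≫ X.fromSpecStalk z, ?_, ?_⟩
  · rw [Category.assoc, ← Scheme.SpecMap_stalkMap_fromSpecStalk, ← Spec.map_comp_assoc, hαφ']
    simp only [Iso.trans_inv, TopCat.Presheaf.stalkCongr_inv, Iso.symm_inv, Spec.map_comp,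
      Category.assoc, Scheme.SpecMap_stalkSpecializes_fromSpecStalk, e]
    rw [← Spec_stalkClosedPointIso, ← Spec.map_comp, Iso.inv_hom_id, Spec.map_id]
  · rw [← Category.assoc, ← Spec.map_comp, hφβ]
    simp only [β, Spec.map_comp, Category.assoc, Scheme.SpecMap_stalkSpecializes_fromSpecStalk]
    exact Scheme.Spec_stalkClosedPointTo_fromSpecStalk x

variable {X Y : Scheme.{u}} [IsLocallyNoetherian Y]

theorem isDomain_stalk_of_isMaxPt {Z : Scheme.{u}} [IsReduced Z] {z : Z} (hz : FlatH4.IsMaxPt z) :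
    IsDomain (Z.presheaf.stalk z) := by
  have h : ∀ q : Spec (Z.presheaf.stalk z), (Z.fromSpecStalk z) q = z := fun q => hz _ (by
    have : (Z.fromSpecStalk z) q ∈ Set.range (Z.fromSpecStalk z) := ⟨q, rfl⟩
    rwa [Scheme.range_fromSpecStalk] at this)
  have hnil : nilradical (Z.presheaf.stalk z) = maximalIdeal (Z.presheaf.stalk z) := by
    refine le_antisymm (le_maximalIdeal (fun h => ?_)) ?_
    · have : IsNilpotent (1 : Z.presheaf.stalk z) := by
        rw [← mem_nilradical, h]; trivial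
      exact one_ne_zero this.eq_zero
    · rw [nilradical_eq_sInf]
      refine le_sInf fun J (hJ : J.IsPrime) => ?_
      have := (Z.fromSpecStalk z).isEmbedding.injective
        ((h ⟨J, hJ⟩).trans (h ⟨maximalIdeal _, inferInstance⟩).symm)
      exact (congrArg PrimeSpectrum.asIdeal this).ge
  rw [nilradical_eq_zero (Z.presheaf.stalk z)] at hnil
  exact ((isField_iff_maximalIdeal_eq).mpr hnil.symm).isDomain

/-- A section of a closed separated morphism of finite type given on a dense open extends to a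
neighbourhood of a point with valuation ring as local ring. -/
theorem exists_local_section [IsReduced Y] (f : X ⟶ Y) [IsSeparated f] [LocallyOfFiniteType f]
    (hcl : IsClosedMap f) (V : Y.Opens) (hV : Dense (V : Set Y)) (s : (V : Scheme.{u}) ⟶ X)
    (hs : s ≫ f = V.ι) (y : Y) [IsDomain (Y.presheaf.stalk y)] [ValuationRing (Y.presheaf.stalk y)] :
    ∃ (W : Y.Opens) (t : (W : Scheme.{u}) ⟶ X), y ∈ W ∧ t ≫ f = W.ι ∧
      Y.homOfLE (inf_le_left : V ⊓ W ≤ V) ≫ s = Y.homOfLE (inf_le_right : V ⊓ W ≤ W) ≫ t := by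
  have hmem : WeilExt.genOf y ∈ V := (WeilExt.isMaxPt_genOf y).mem_of_dense V.2 hV
  have hrange : Set.range (WeilExt.genι y) ⊆ Set.range V.ι := by
    rw [Scheme.Opens.range_ι]; rintro - ⟨z, rfl⟩
    rw [WeilExt.genι_apply]; exact hmem
  let l : Spec (CommRingCat.of (FractionRing (Y.presheaf.stalk y))) ⟶ (V : Scheme.{u}) :=
    IsOpenImmersion.lift V.ι (WeilExt.genι y) hrange
  have hl : l ≫ V.ι = WeilExt.genι y := IsOpenImmersion.lift_fac _ _ _
  let P := pullback f (Y.fromSpecStalk y)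
  let xP : Spec (CommRingCat.of (FractionRing (Y.presheaf.stalk y))) ⟶ P :=
    pullback.lift (l ≫ s) (Spec.map (WeilExt.toFF _)) (by rw [Category.assoc, hs, hl]; rfl)
  set xη := xP (closedPoint (FractionRing (Y.presheaf.stalk y))) with hxη
  have hsp : f (pullback.fst f (Y.fromSpecStalk y) xη) ⤳ y := by
    have : f (pullback.fst f (Y.fromSpecStalk y) xη) ∈ Set.range (Y.fromSpecStalk y) :=
      ⟨pullback.snd f (Y.fromSpecStalk y) xη,
        (congrArg (fun φ : P ⟶ Y => φ xη) pullback.condition).symm⟩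
    rwa [Scheme.range_fromSpecStalk] at this
  obtain ⟨z, hz, hzy⟩ := hcl.specializingMap hsp
  obtain ⟨zP, hz1, hz2⟩ := Scheme.Pullback.exists_preimage_pullback (f := f) (g := Y.fromSpecStalk y) z
    (closedPoint (Y.presheaf.stalk y)) (hzy.trans Y.fromSpecStalk_closedPoint.symm)
  have h₁ : xη ⤳ zP := by
    rw [← (pullback.fst f (Y.fromSpecStalk y)).isEmbedding.isInducing.specializes_iff, hz1]
    exact hz
  obtain ⟨σ, hσ, hσx⟩ := @exists_section_of_specializes (Y.presheaf.stalk y) (Y.presheaf.stalk y).commRing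
    (by assumption) (by assumption) (FractionRing (Y.presheaf.stalk y)) _ _ _ P
    (pullback.snd f (Y.fromSpecStalk y)) xP (pullback.lift_snd _ _ _) zP h₁ hz2
  let φ : Spec (Y.presheaf.stalk y) ⟶ X := σ ≫ pullback.fst f (Y.fromSpecStalk y)
  have hφf : φ ≫ f = Y.fromSpecStalk y ≫ 𝟙 Y := by
    rw [Category.comp_id, Category.assoc, pullback.condition, reassoc_of% hσ]
  have hφl : Spec.map (WeilExt.toFF _) ≫ φ = l ≫ s := by
    rw [← Category.assoc]
    exact (congrArg (· ≫ pullback.fst f (Y.fromSpecStalk y)) hσx).trans (pullback.lift_fst _ _ _)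
  obtain ⟨W₁, hyW₁, t₁, ht₁, ht₁f⟩ := spread_out_of_isGermInjective' (𝟙 Y) f φ (x := y) hφf
  rw [Category.comp_id] at ht₁f
  obtain ⟨W₂, hyW₂, hW₂⟩ := WeilExt.exists_nhd_unique_isMaxPt y
  refine ⟨W₁ ⊓ W₂, Y.homOfLE inf_le_left ≫ t₁, ⟨hyW₁, hyW₂⟩, by
    rw [Category.assoc, ht₁f, Scheme.homOfLE_ι], ?_⟩
  haveI : IsReduced ((V ⊓ (W₁ ⊓ W₂) : Y.Opens) : Scheme.{u}) := isReduced_of_isOpenImmersion (Scheme.Opens.ι _)
  refine WeilExt.eq_of_forall_isMaxPt f _ _ ?_ fun w hw => ?_
  · simp only [Category.assoc, hs, ht₁f, Scheme.homOfLE_ι]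
  have hwy : (V ⊓ (W₁ ⊓ W₂)).ι w = WeilExt.genOf y := hW₂ _ w.2.2.2 (WeilExt.isMaxPt_of_ι hw)
  let c : Spec (CommRingCat.of (FractionRing (Y.presheaf.stalk y))) ⟶ (V ⊓ (W₁ ⊓ W₂) : Y.Opens) :=
    IsOpenImmersion.lift (V ⊓ (W₁ ⊓ W₂)).ι (WeilExt.genι y) (by
      rw [Scheme.Opens.range_ι]; rintro - ⟨v, rfl⟩
      rw [WeilExt.genι_apply, ← hwy]; exact w.2)
  have hc : c ≫ (V ⊓ (W₁ ⊓ W₂)).ι = WeilExt.genι y := IsOpenImmersion.lift_fac _ _ _
  have hcz : c (closedPoint (FractionRing (Y.presheaf.stalk y))) = w := by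
    apply (V ⊓ (W₁ ⊓ W₂)).ι.isOpenEmbedding.injective
    rw [← Scheme.Hom.comp_apply, hc, WeilExt.genι_apply, hwy]
  have hcV : c ≫ Y.homOfLE (inf_le_left : V ⊓ (W₁ ⊓ W₂) ≤ V) = l := by
    rw [← cancel_mono V.ι, Category.assoc, Scheme.homOfLE_ι, hc, hl]
  have hct : c ≫ Y.homOfLE (inf_le_right : V ⊓ (W₁ ⊓ W₂) ≤ W₁ ⊓ W₂) ≫ Y.homOfLE inf_le_left ≫ t₁ = l ≫ s := by
    rw [← hφl, ht₁]
    simp only [← Category.assoc]
    congr 1
    rw [← cancel_mono W₁.ι]
    simp only [Category.assoc, Scheme.homOfLE_ι, Scheme.Opens.fromSpecStalkOfMem_ι, hc]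
    rfl
  haveI : IsDomain (Y.presheaf.stalk ((V ⊓ (W₁ ⊓ W₂)).ι w)) := by rw [hwy]; exact isDomain_stalk_of_isMaxPt (WeilExt.isMaxPt_genOf y)
  haveI : IsDomain (((V ⊓ (W₁ ⊓ W₂) : Y.Opens) : Scheme.{u}).presheaf.stalk w) :=
    MulEquiv.isDomain _ (asIso ((V ⊓ (W₁ ⊓ W₂)).ι.stalkMap w)).commRingCatIsoToRingEquiv.symm.toMulEquiv
  exact WeilExt.fromSpecStalk_comp_eq f _ _ (by simp only [Category.assoc, hs, ht₁f, Scheme.homOfLE_ι]) w hw
    (FractionRing (Y.presheaf.stalk y)) c hcz (by rw [hct, reassoc_of% hcV])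

/-- The extension to all such points simultaneously. -/
theorem exists_extend_section [IsReduced Y] (f : X ⟶ Y) [IsSeparated f] [LocallyOfFiniteType f]
    (hcl : IsClosedMap f) (P : Y → Prop)
    (hP : ∀ y, P y → IsDomain (Y.presheaf.stalk y) ∧ ∀ [IsDomain (Y.presheaf.stalk y)], ValuationRing (Y.presheaf.stalk y))
    (V : Y.Opens) (hV : Dense (V : Set Y)) (s : (V : Scheme.{u}) ⟶ X) (hs : s ≫ f = V.ι) :
    ∃ (U : Y.Opens) (hVU : V ≤ U) (s' : (U : Scheme.{u}) ⟶ X), s' ≫ f = U.ι ∧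
      Y.homOfLE hVU ≫ s' = s ∧ ∀ y, P y → y ∈ U := by
  have hex : ∀ y : {y : Y // P y}, ∃ (W : Y.Opens) (t : (W : Scheme.{u}) ⟶ X), y.1 ∈ W ∧ t ≫ f = W.ι ∧
      Y.homOfLE (inf_le_left : V ⊓ W ≤ V) ≫ s = Y.homOfLE (inf_le_right : V ⊓ W ≤ W) ≫ t := fun y => by
    haveI := (hP y.1 y.2).1
    haveI := (hP y.1 y.2).2
    exact exists_local_section f hcl V hV s hs y.1
  choose W t hyW htf hagree using hex
  let O : Option {y : Y // P y} → Y.Opens := fun o => o.elim V W
  let F : ∀ o, (O o).toScheme ⟶ X := fun o => match o with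
    | none => s
    | some y => t y
  have hFf : ∀ o, F o ≫ f = (O o).ι := fun o => match o with
    | none => hs
    | some y => htf y
  have hFs : ∀ o, Y.homOfLE (inf_le_left : V ⊓ O o ≤ V) ≫ s = Y.homOfLE (inf_le_right : V ⊓ O o ≤ O o) ≫ F o :=
    fun o => match o with
    | none => rfl
    | some y => hagree y
  have key : ∀ a b, Y.homOfLE (inf_le_left : O a ⊓ O b ≤ O a) ≫ F a =
      Y.homOfLE (inf_le_right : O a ⊓ O b ≤ O b) ≫ F b := by
    intro a b
    haveI : IsReduced ((O a ⊓ O b : Y.Opens) : Scheme.{u}) := isReduced_of_isOpenImmersion (Scheme.Opens.ι _)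
    have hle : V ⊓ (O a ⊓ O b) ≤ O a ⊓ O b := inf_le_right
    haveI : IsDominant (Y.homOfLE hle) := ⟨by
      have hr : Set.range (Y.homOfLE hle) = (O a ⊓ O b).ι ⁻¹' (V : Set Y) := by
        ext w
        constructor
        · rintro ⟨v, rfl⟩
          show (Y.homOfLE hle ≫ (O a ⊓ O b).ι) v ∈ (V : Set Y)
          rw [Scheme.homOfLE_ι]; exact v.2.1
        · intro hw
          exact ⟨⟨w.1, hw, w.2⟩, (O a ⊓ O b).ι.isOpenEmbedding.injective
            (congrArg (fun φ : _ ⟶ Y => φ _) (Scheme.homOfLE_ι Y hle))⟩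
      rw [DenseRange, hr]
      exact hV.preimage (O a ⊓ O b).ι.isOpenEmbedding.isOpenMap⟩
    refine ext_of_isDominant_of_isSeparated f ?_ (Y.homOfLE hle) ?_
    · simp only [Category.assoc, hFf, Scheme.homOfLE_ι]
    · have ea := congr(Y.homOfLE (le_inf inf_le_left (inf_le_right.trans inf_le_left) :
        V ⊓ (O a ⊓ O b) ≤ V ⊓ O a) ≫ $(hFs a))
      have eb := congr(Y.homOfLE (le_inf inf_le_left (inf_le_right.trans inf_le_right) :
        V ⊓ (O a ⊓ O b) ≤ V ⊓ O b) ≫ $(hFs b))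
      simp only [← Category.assoc, Scheme.homOfLE_homOfLE] at ea eb ⊢
      exact ea.symm.trans eb
  refine ⟨⨆ o, O o, le_iSup O none, (Scheme.Opens.iSupOpenCover O).glueMorphisms F fun a b => ?_, ?_,
    Scheme.Cover.ι_glueMorphisms (Scheme.Opens.iSupOpenCover O) F _ none,
    fun y hy => Opens.mem_iSup.mpr ⟨some ⟨y, hy⟩, hyW _⟩⟩
  · refine (cancel_epi (isPullback_opens_inf_le (le_iSup O a) (le_iSup O b)).isoPullback.hom).mp ?_
    change _ ≫ pullback.fst (Y.homOfLE (le_iSup O a)) (Y.homOfLE (le_iSup O b)) ≫ _ =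
      _ ≫ pullback.snd (Y.homOfLE (le_iSup O a)) (Y.homOfLE (le_iSup O b)) ≫ _
    rw [IsPullback.isoPullback_hom_fst_assoc, IsPullback.isoPullback_hom_snd_assoc]
    exact key a b
  · refine Scheme.Cover.hom_ext (Scheme.Opens.iSupOpenCover O) _ _ fun o => ?_
    rw [Scheme.Cover.ι_glueMorphisms_assoc]
    exact (hFf o).trans (Scheme.homOfLE_ι Y (le_iSup O o)).symm

end Groth.Agent.DVRVal

namespace Groth.Agent.DVRVal

/-- A regular local ring of dimension at most one is a valuation ring. -/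
theorem valuationRing_of_regular (O : Type u) [CommRing O] [IsRegularLocalRing O] [IsDomain O]
    (h : ringKrullDim O ≤ 1) : ValuationRing O := by
  refine ((tfae_of_isNoetherianRing_of_isLocalRing_of_isDomain O).out 1 5).2 ?_
  have h1 := (IsRegularLocalRing.iff_finrank_cotangentSpace O).1 inferInstance
  have h2 : (Module.finrank (ResidueField O) (CotangentSpace O) : WithBot ℕ∞) ≤ 1 := h1.trans_le h
  exact_mod_cast h2

/-- EGA II 7.3.5: a section over a dense open extends over all points of codimension at most one. -/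
theorem exists_extend_section_codim_one {X Y : Scheme.{u}} [IsLocallyNoetherian Y] [IsReduced Y]
    (hreg : ∀ y : Y, ringKrullDim (Y.presheaf.stalk y) ≤ 1 → IsRegularLocalRing (Y.presheaf.stalk y))
    (f : X ⟶ Y) [IsSeparated f] [LocallyOfFiniteType f] (hcl : IsClosedMap f)
    (V : Y.Opens) (hV : Dense (V : Set Y)) (s : (V : Scheme.{u}) ⟶ X) (hs : s ≫ f = V.ι) :
    ∃ (U : Y.Opens) (hVU : V ≤ U) (s' : (U : Scheme.{u}) ⟶ X), s' ≫ f = U.ι ∧ Y.homOfLE hVU ≫ s' = s ∧
      ∀ y : Y, ringKrullDim (Y.presheaf.stalk y) ≤ 1 → y ∈ U :=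
  exists_extend_section f hcl (fun y => ringKrullDim (Y.presheaf.stalk y) ≤ 1)
    (fun y hy => by
      haveI := hreg y hy
      refine ⟨RegLoc.isDomain _, ?_⟩
      intro _
      exact valuationRing_of_regular _ hy) V hV s hs

end Groth.Agent.DVRVal
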