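import Mathlib
import Groth.Prelude.Def_Pi1
import Groth.Agent.Lib.DVRVal.Extend

/-!
Local rings of normal curves over a field.
-/

universe u

open CategoryTheory CategoryTheory.Limits AlgebraicGeometry TopologicalSpace IsLocalRing

namespace Groth.Agent.DVRVal

/-- The local ring of a generisation has smaller dimension. -/
theorem ringKrullDim_stalk_le {X : Scheme.{u}} {x y : X} (h : x ⤳ y) :
    ringKrullDim (X.presheaf.stalk x) ≤ ringKrullDim (X.presheaf.stalk y) := by
  have hinj : Function.Injective (Spec.map (X.presheaf.stalkSpecializes h)) := fun p q hpq => by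
    apply (X.fromSpecStalk x).isEmbedding.injective
    rw [← Scheme.SpecMap_stalkSpecializes_fromSpecStalk h, Scheme.Hom.comp_apply, Scheme.Hom.comp_apply, hpq]
  let g : PrimeSpectrum (X.presheaf.stalk x) → PrimeSpectrum (X.presheaf.stalk y) :=
    PrimeSpectrum.comap (X.presheaf.stalkSpecializes h).hom
  have hg : Function.Injective g := hinj
  exact Order.krullDim_le_of_strictMono g (Monotone.strictMono_of_injective (fun a b hab => Ideal.comap_mono hab) hg)

variable {k : Type u} [Field k] {X : Scheme.{u}} (p : X ⟶ Spec (CommRingCat.of k)) [LocallyOfFiniteType p]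

include p in
theorem exists_closed_specializes (x : X) : ∃ c : X, IsClosed ({c} : Set X) ∧ x ⤳ c := by
  haveI : JacobsonSpace X := LocallyOfFiniteType.jacobsonSpace p
  obtain ⟨c, hc, hcl⟩ := nonempty_inter_closedPoints (Z := closure {x}) ⟨x, subset_closure rfl⟩
    isClosed_closure.isLocallyClosed
  exact ⟨c, hcl, specializes_iff_mem_closure.mpr hc⟩

include p in
theorem ringKrullDim_stalk_le_one (hX : ∀ x : X, IsClosed ({x} : Set X) → ringKrullDim (X.presheaf.stalk x) = 1)
    (x : X) : ringKrullDim (X.presheaf.stalk x) ≤ 1 := by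
  obtain ⟨c, hc, hxc⟩ := exists_closed_specializes p x
  exact (ringKrullDim_stalk_le hxc).trans (hX c hc).le

/-- An integrally closed Noetherian local domain of dimension at most one is a valuation ring. -/
theorem valuationRing_of_normal (O : Type u) [CommRing O] [IsLocalRing O] [IsDomain O] [IsNoetherianRing O]
    [IsIntegrallyClosed O] (h : ringKrullDim O ≤ 1) : ValuationRing O := by
  haveI : Ring.KrullDimLE 1 O := Ring.krullDimLE_iff.mpr h
  have e : (IsIntegrallyClosed O ∧ ∀ P : Ideal O, P ≠ ⊥ → P.IsPrime → P = maximalIdeal O) ↔ ValuationRing O :=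
    (tfae_of_isNoetherianRing_of_isLocalRing_of_isDomain O).out 3 1
  exact e.1 ⟨inferInstance, fun P hP hP' => eq_maximalIdeal
      (Ring.krullDimLE_one_iff_of_noZeroDivisors.mp ‹_› P hP hP')⟩

theorem isRegularLocalRing_of_normal (O : Type u) [CommRing O] [IsLocalRing O] [IsDomain O] [IsNoetherianRing O]
    [IsIntegrallyClosed O] (h : ringKrullDim O ≤ 1) : IsRegularLocalRing O := by
  haveI := valuationRing_of_normal O h
  have e : ValuationRing O ↔ IsPrincipalIdealRing O :=
    (tfae_of_isNoetherianRing_of_isLocalRing_of_isDomain O).out 1 0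
  haveI : IsPrincipalIdealRing O := e.1 inferInstance
  infer_instance

include p in
theorem valuationRing_stalk_of_normal_curve
    (hX : ∀ x : X, IsClosed ({x} : Set X) → ringKrullDim (X.presheaf.stalk x) = 1) (hN : Pi1.IsNormalScheme X)
    (x : X) [IsDomain (X.presheaf.stalk x)] : ValuationRing (X.presheaf.stalk x) := by
  haveI : IsLocallyNoetherian X := LocallyOfFiniteType.isLocallyNoetherian p
  haveI := (hN x).2
  exact valuationRing_of_normal _ (ringKrullDim_stalk_le_one p hX x)

include p in
/-- Maps from a dense open of a normal curve to a proper scheme extend. -/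
theorem exists_extend_curve (hX : ∀ x : X, IsClosed ({x} : Set X) → ringKrullDim (X.presheaf.stalk x) = 1)
    (hN : Pi1.IsNormalScheme X) {S Y : Scheme.{u}} (q : Y ⟶ S) [IsProper q] (r : X ⟶ S)
    (U : X.Opens) (hU : Dense (U : Set X)) (g : (U : Scheme.{u}) ⟶ Y) (hg : g ≫ q = U.ι ≫ r) :
    ∃! g' : X ⟶ Y, U.ι ≫ g' = g ∧ g' ≫ q = r := by
  haveI : IsLocallyNoetherian X := LocallyOfFiniteType.isLocallyNoetherian p
  haveI : ∀ x : X, _root_.IsReduced (X.presheaf.stalk x) := fun x => by haveI := (hN x).1; infer_instance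
  haveI : IsReduced X := isReduced_of_isReduced_stalk X
  have hreg : ∀ x : X, ringKrullDim (X.presheaf.stalk x) ≤ 1 → IsRegularLocalRing (X.presheaf.stalk x) :=
    fun x hx => by haveI := (hN x).1; haveI := (hN x).2; exact isRegularLocalRing_of_normal _ hx
  obtain ⟨W, hUW, s, hs, hsU, hW⟩ := exists_extend_section_codim_one hreg (pullback.snd q r)
    (Scheme.Hom.isClosedMap _) U hU (pullback.lift g U.ι hg) (pullback.lift_snd _ _ _)
  obtain rfl : W = ⊤ := top_le_iff.mp fun x _ => hW x (ringKrullDim_stalk_le_one p hX x)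
  haveI : IsDominant U.ι := ⟨by rw [DenseRange, Scheme.Opens.range_ι]; exact hU⟩
  have h1 : U.ι ≫ X.topIso.inv = X.homOfLE hUW := by
    rw [← cancel_mono (⊤ : X.Opens).ι, Category.assoc, Scheme.homOfLE_ι]
    simp
  refine ⟨X.topIso.inv ≫ s ≫ pullback.fst q r, ⟨?_, ?_⟩, fun g' hg' => ?_⟩
  · rw [reassoc_of% h1, reassoc_of% hsU, pullback.lift_fst]
  · simp only [Category.assoc, pullback.condition]
    rw [reassoc_of% hs]
    simp
  · refine ext_of_isDominant_of_isSeparated q ?_ U.ι ?_
    · rw [hg'.2]
      simp only [Category.assoc, pullback.condition]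
      rw [reassoc_of% hs]
      simp
    · rw [hg'.1, reassoc_of% h1, reassoc_of% hsU, pullback.lift_fst]

end Groth.Agent.DVRVal
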