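import Mathlib

/-!
A quasi-compact morphism is universally closed as soon as its base changes along morphisms locally of
finite type are closed maps.
-/

universe u

open CategoryTheory CategoryTheory.Limits AlgebraicGeometry TopologicalSpace
open scoped TensorProduct

namespace Groth.Agent.DVRVal

variable {X Y : Scheme.{u}} (f : X ⟶ Y) (R B : Type u) [CommRing R] [CommRing B] [Algebra R B]
  (j : Spec (CommRingCat.of R) ⟶ Y)

/-- The base of the base change to the spectrum of an `R`-algebra. -/
noncomputable abbrev baseMap : Spec (CommRingCat.of B) ⟶ Y :=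
  Spec.map (CommRingCat.ofHom (algebraMap R B)) ≫ j

variable {R B}

/-- The transition map to a subalgebra. -/
noncomputable abbrev toSub (B' : Subalgebra R B) : Spec (CommRingCat.of B) ⟶ Spec (CommRingCat.of B') :=
  Spec.map (CommRingCat.ofHom B'.val.toRingHom)

lemma toSub_baseMap (B' : Subalgebra R B) : toSub B' ≫ baseMap R B' j = baseMap R B j := by
  rw [← Category.assoc, ← Spec.map_comp]
  rfl

/-- The map between the two base changes. -/
noncomputable abbrev transMap (B' : Subalgebra R B) :
    pullback f (baseMap R B j) ⟶ pullback f (baseMap R B' j) :=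
  pullback.map _ _ _ _ (𝟙 X) (toSub B') (𝟙 Y) (by simp)
    (by rw [Category.comp_id]; exact (toSub_baseMap j B').symm)

lemma isPullback_transMap (B' : Subalgebra R B) :
    IsPullback (transMap f j B') (pullback.snd f (baseMap R B j)) (pullback.snd f (baseMap R B' j))
      (toSub B') := by
  refine IsPullback.of_right ?_ (pullback.lift_snd _ _ _) (IsPullback.of_hasPullback f (baseMap R B' j))
  rw [show transMap f j B' ≫ pullback.fst f (baseMap R B' j) = pullback.fst f (baseMap R B j) from (pullback.lift_fst _ _ _).trans (Category.comp_id _),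
    toSub_baseMap]
  exact IsPullback.of_hasPullback f (baseMap R B j)

lemma exists_finset_mem_range {C : Type u} [CommRing C] [Algebra R C] (h : C ⊗[R] B) :
    ∃ S : Finset B, ∀ B' : Subalgebra R B, (S : Set B) ⊆ B' →
      h ∈ Set.range (Algebra.TensorProduct.map (AlgHom.id R C) B'.val) := by
  classical
  induction h using TensorProduct.induction_on with
  | zero => exact ⟨∅, fun B' _ => ⟨0, map_zero _⟩⟩
  | tmul c b =>
    refine ⟨{b}, fun B' hB' => ⟨c ⊗ₜ ⟨b, hB' (by simp)⟩, ?_⟩⟩
    simp
  | add h h' ih ih' =>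
    obtain ⟨S, hS⟩ := ih
    obtain ⟨S', hS'⟩ := ih'
    refine ⟨S ∪ S', fun B' hB' => ?_⟩
    rw [Finset.coe_union, Set.union_subset_iff] at hB'
    obtain ⟨a, rfl⟩ := hS B' hB'.1
    obtain ⟨a', rfl⟩ := hS' B' hB'.2
    exact ⟨a + a', map_add _ _ _⟩

section chart

variable {C : Type u} [CommRing C] [Algebra R C] (u : Spec (CommRingCat.of C) ⟶ X)
  (hu : u ≫ f = Spec.map (CommRingCat.ofHom (algebraMap R C)) ≫ j)

/-- A chart of the base change. -/
noncomputable def chart (B : Type u) [CommRing B] [Algebra R B] :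
    Spec (CommRingCat.of (C ⊗[R] B)) ⟶ pullback f (baseMap R B j) :=
  (pullbackSpecIso R C B).inv ≫ pullback.map _ _ _ _ u (𝟙 _) j hu.symm (by simp)

instance [IsOpenImmersion u] [IsOpenImmersion j] (B : Type u) [CommRing B] [Algebra R B] :
    IsOpenImmersion (chart f j u hu B) := by
  unfold chart; infer_instance

lemma range_chart [Mono j] (B : Type u) [CommRing B] [Algebra R B] :
    Set.range (chart f j u hu B) = pullback.fst f (baseMap R B j) ⁻¹' Set.range u := by
  unfold chart
  rw [Scheme.Hom.comp_base, TopCat.coe_comp, Set.range_comp, Set.range_eq_univ.mpr, Set.image_univ,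
    Scheme.Pullback.range_map]
  · have : Set.range (𝟙 (Spec (CommRingCat.of B)) : _ ⟶ _) = Set.univ :=
      Set.range_eq_univ.mpr fun y => ⟨y, rfl⟩
    rw [this, Set.preimage_univ, Set.inter_univ]
  · exact (pullbackSpecIso R C B).inv.homeomorph.surjective

lemma chart_transMap (B' : Subalgebra R B) :
    chart f j u hu B ≫ transMap f j B' =
      Spec.map (CommRingCat.ofHom (Algebra.TensorProduct.map (AlgHom.id R C) B'.val).toRingHom) ≫
        chart f j u hu B' := by
  apply pullback.hom_ext
  · simp only [chart, transMap, Category.assoc, pullback.lift_fst, pullback.lift_fst_assoc,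
      Category.comp_id]
    rw [reassoc_of% (pullbackSpecIso_inv_fst R C B), reassoc_of% (pullbackSpecIso_inv_fst R C B'),
      ← Spec.map_comp_assoc]
    congr 2
  · simp only [chart, transMap, Category.assoc, pullback.lift_snd, pullback.lift_snd_assoc,
      Category.comp_id, Category.id_comp]
    rw [reassoc_of% (pullbackSpecIso_inv_snd R C B), pullbackSpecIso_inv_snd R C B',
      ← Spec.map_comp, ← Spec.map_comp]
    congr 1

end chart

/-- Every neighbourhood in the base change contains one coming from a finitely generated subalgebra. -/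
lemma exists_descend_nhd [IsOpenImmersion j] (z : ↥(pullback f (baseMap R B j))) (W : (pullback f (baseMap R B j)).Opens)
    (hz : z ∈ W) :
    ∃ (S : Finset B) (N : (pullback f (baseMap R B j)).Opens), z ∈ N ∧
      ∀ B' : Subalgebra R B, (S : Set B) ⊆ B' → ∀ y ∈ N,
        ∃ W' : (pullback f (baseMap R B' j)).Opens,
          transMap f j B' y ∈ W' ∧ ∀ q, transMap f j B' q ∈ W' → q ∈ W := by
  have hmem : pullback.fst f (baseMap R B j) z ∈ f ⁻¹ᵁ j.opensRange := by
    refine ⟨Spec.map (CommRingCat.ofHom (algebraMap R B)) (pullback.snd f (baseMap R B j) z), ?_⟩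
    exact (congrArg (fun φ : pullback f (baseMap R B j) ⟶ Y => φ z) (pullback.condition (f := f)
      (g := baseMap R B j))).symm
  obtain ⟨_, ⟨U, hU, rfl⟩, hxU, hle⟩ :=
    X.isBasis_affineOpens.exists_subset_of_mem_open hmem (f ⁻¹ᵁ j.opensRange).2
  have hrange : Set.range (hU.fromSpec ≫ f) ⊆ Set.range j := by
    rintro _ ⟨p, rfl⟩
    have : hU.fromSpec p ∈ (U : Set X) := hU.range_fromSpec ▸ Set.mem_range_self p
    exact hle this
  haveI : IsOpenImmersion hU.fromSpec := IsAffineOpen.isOpenImmersion_fromSpec hU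
  let k := IsOpenImmersion.lift j (hU.fromSpec ≫ f) hrange
  letI : Algebra R Γ(X, U) := (Spec.preimage k).hom.toAlgebra
  have hu : hU.fromSpec ≫ f = Spec.map (CommRingCat.ofHom (algebraMap R Γ(X, U))) ≫ j := by
    change _ = Spec.map (Spec.preimage k) ≫ j
    rw [Spec.map_preimage, IsOpenImmersion.lift_fac]
  obtain ⟨p, rfl⟩ : z ∈ Set.range (chart f j hU.fromSpec hu B) := by
    rw [range_chart, hU.range_fromSpec]; exact hxU
  obtain ⟨_, ⟨h, rfl⟩, hph, hhW⟩ := PrimeSpectrum.isTopologicalBasis_basic_opens.exists_subset_of_mem_open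
    (show p ∈ chart f j hU.fromSpec hu B ⁻¹' W from hz) (W.2.preimage (Scheme.Hom.continuous _))
  obtain ⟨S, hS⟩ := exists_finset_mem_range h
  refine ⟨S, chart f j hU.fromSpec hu B ''ᵁ PrimeSpectrum.basicOpen h, ⟨p, hph, rfl⟩, fun B' hB' y hy => ?_⟩
  obtain ⟨py, hpy, rfl⟩ := hy
  obtain ⟨h', rfl⟩ := hS B' hB'
  have hcomm (p' : ↥(Spec (CommRingCat.of (Γ(X, U) ⊗[R] B)))) :
      transMap f j B' (chart f j hU.fromSpec hu B p') = chart f j hU.fromSpec hu B'
        (Spec.map (CommRingCat.ofHom (Algebra.TensorProduct.map (AlgHom.id R Γ(X, U)) B'.val).toRingHom) p') :=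
    congrArg (fun φ : _ ⟶ pullback f (baseMap R B' j) => φ p') (chart_transMap f j hU.fromSpec hu B')
  refine ⟨chart f j hU.fromSpec hu B' ''ᵁ PrimeSpectrum.basicOpen h', ?_, fun q hq => ?_⟩
  · exact ⟨_, hpy, (hcomm py).symm⟩
  · obtain ⟨p'', hp'', e⟩ := hq
    obtain ⟨p', rfl⟩ : q ∈ Set.range (chart f j hU.fromSpec hu B) := by
      rw [range_chart]
      have h1 : pullback.fst f (baseMap R B' j) (transMap f j B' q) ∈ Set.range hU.fromSpec := by
        have : transMap f j B' q ∈ Set.range (chart f j hU.fromSpec hu B') := ⟨p'', e⟩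
        rwa [range_chart] at this
      rwa [← Scheme.Hom.comp_apply, pullback.lift_fst, Category.comp_id] at h1
    rw [hcomm] at e
    have := (chart f j hU.fromSpec hu B').isOpenEmbedding.injective e
    apply hhW
    rw [this] at hp''
    exact hp''

/-- Closedness of the base change to an affine scheme over an open affine of the target. -/
theorem isClosedMap_snd_baseMap [IsOpenImmersion j] [QuasiCompact f]
    (H : ∀ B' : Subalgebra R B, B'.FG → IsClosedMap (pullback.snd f (baseMap R B' j))) :
    IsClosedMap (pullback.snd f (baseMap R B j)) := by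
  classical
  intro C hC
  rw [← isOpen_compl_iff, isOpen_iff_forall_mem_open]
  intro t' ht'
  set F := pullback.snd f (baseMap R B j) ⁻¹' {t'}
  have hW : ∀ z ∈ F, z ∈ (⟨Cᶜ, hC.isOpen_compl⟩ : (pullback f (baseMap R B j)).Opens) :=
    fun z hz hzC => ht' ⟨z, hzC, hz⟩
  choose S N hzN hS using fun z : F => exists_descend_nhd f j z.1 _ (hW z.1 z.2)
  obtain ⟨K, hK⟩ := ((pullback.snd f (baseMap R B j)).isCompact_preimage_singleton t').elim_finite_subcover
    (fun z : F => (N z : Set ↥(pullback f (baseMap R B j)))) (fun z => (N z).2)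
    (fun z hz => Set.mem_iUnion.mpr ⟨⟨z, hz⟩, hzN ⟨z, hz⟩⟩)
  let B' := Algebra.adjoin R ((K.biUnion S : Finset B) : Set B)
  have hsub : ∀ z ∈ K, (S z : Set B) ⊆ B' := fun z hz =>
    (Finset.coe_subset.mpr (Finset.subset_biUnion_of_mem S hz)).trans Algebra.subset_adjoin
  have hB' := H B' ⟨K.biUnion S, rfl⟩
  let C' : Set ↥(pullback f (baseMap R B' j)) := closure (transMap f j B' '' C)
  have hmiss : toSub B' t' ∉ pullback.snd f (baseMap R B' j) '' C' := by
    rintro ⟨z', hz', e⟩
    obtain ⟨q, hq1, hq2⟩ :=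
      Scheme.exists_preimage_of_isPullback (isPullback_transMap f j B') z' t' e
    obtain ⟨z, hzK, hzq⟩ := Set.mem_iUnion₂.mp (hK (show q ∈ F from hq2))
    obtain ⟨W'', hW''q, hW''⟩ := hS z B' (hsub z hzK) q hzq
    rw [← hq1] at hz'
    obtain ⟨_, h1, ⟨c, hc, rfl⟩⟩ := mem_closure_iff.mp hz' _ W''.2 hW''q
    exact hW'' c h1 hc
  refine ⟨toSub B' ⁻¹' (pullback.snd f (baseMap R B' j) '' C')ᶜ, ?_,
    (hB' C' isClosed_closure).isOpen_compl.preimage (Scheme.Hom.continuous _), hmiss⟩
  rintro t ht ⟨c, hc, rfl⟩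
  apply ht
  refine ⟨transMap f j B' c, subset_closure ⟨c, hc, rfl⟩, ?_⟩
  exact congrArg (fun φ : _ ⟶ Spec (CommRingCat.of B') => φ c) (isPullback_transMap f j B').w

end Groth.Agent.DVRVal
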