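import Mathlib
import Groth.Agent.Lib.KrullAkizuki.DVR

/-!
Discrete valuation rings through a specialization on a locally Noetherian scheme (EGA II 7.1.7).
-/

universe u

open CategoryTheory AlgebraicGeometry IsLocalRing

namespace Groth.Agent.DVRVal

/-- A non-closed point of a Noetherian local ring with an essentially finite type field extension
is dominated by a discrete valuation ring. -/
theorem exists_dvr (O : Type u) [CommRing O] [IsLocalRing O] [IsNoetherianRing O] (L : Type u) [Field L]
    (φ : O →+* L) (hφ : φ.EssFiniteType) (hne : RingHom.ker φ ≠ maximalIdeal O) :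
    ∃ V : ValuationSubring L, IsDiscreteValuationRing V ∧ (∀ a, φ a ∈ V) ∧
      ∀ a ∈ maximalIdeal O, V.valuation (φ a) < 1 := by
  haveI : (RingHom.ker φ).IsPrime := RingHom.ker_isPrime φ
  let A := O ⧸ RingHom.ker φ
  haveI : Nontrivial A := Ideal.Quotient.nontrivial_iff.mpr Ideal.IsPrime.ne_top'
  haveI : IsLocalRing A := .of_surjective' (Ideal.Quotient.mk _) Ideal.Quotient.mk_surjective
  haveI : IsLocalHom (Ideal.Quotient.mk (RingHom.ker φ)) :=
    IsLocalHom.of_surjective _ Ideal.Quotient.mk_surjective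
  letI : Algebra O L := φ.toAlgebra
  letI : Algebra A L := (RingHom.kerLift φ).toAlgebra
  haveI : IsScalarTower O A L := IsScalarTower.of_algebraMap_eq fun _ => rfl
  haveI : FaithfulSMul A L := (faithfulSMul_iff_algebraMap_injective _ _).mpr (RingHom.kerLift_injective φ)
  haveI : Algebra.EssFiniteType O L := hφ
  haveI : Algebra.EssFiniteType A L := Algebra.EssFiniteType.of_comp O A L
  letI : Algebra (FractionRing A) L := FractionRing.liftAlgebra A L
  haveI : Algebra.EssFiniteType (FractionRing A) L := Algebra.EssFiniteType.of_comp A (FractionRing A) L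
  have hA : ¬ IsField A := fun h =>
    hne (eq_maximalIdeal (Ideal.Quotient.maximal_of_isField _ h))
  obtain ⟨V, hV, h1, h2⟩ :=
    Groth.Agent.KrullAkizuki.exists_dvr_dominating_of_essFiniteType A hA (FractionRing A) L
  refine ⟨V, hV, fun a => h1 (Ideal.Quotient.mk _ a), fun a ha => h2 (Ideal.Quotient.mk _ a) ?_⟩
  exact fun hu => ha (isUnit_of_map_unit _ _ hu)

variable {X Y : Scheme.{u}}

lemma essFiniteType_stalkSpecializes {y y' : Y} (h : y ⤳ y') :
    (Y.presheaf.stalkSpecializes h).hom.EssFiniteType := by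
  obtain ⟨_, ⟨U, hU, rfl⟩, hy', -⟩ :=
    Y.isBasis_affineOpens.exists_subset_of_mem_open (Set.mem_univ y') isOpen_univ
  have hy : y ∈ U := h.mem_open U.2 hy'
  refine RingHom.EssFiniteType.of_comp (Y.presheaf.germ U y' hy').hom ?_
  rw [← CommRingCat.hom_comp, TopCat.Presheaf.germ_stalkSpecializes]
  letI : Algebra Γ(Y, U) (Y.presheaf.stalk y) := (Y.presheaf.germ U y hy).hom.toAlgebra
  haveI : IsLocalization.AtPrime (Y.presheaf.stalk y) (hU.primeIdealOf ⟨y, hy⟩).asIdeal :=
    hU.isLocalization_stalk ⟨y, hy⟩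
  haveI : Algebra.EssFiniteType Γ(Y, U) (Y.presheaf.stalk y) :=
    Algebra.EssFiniteType.of_isLocalization _ (hU.primeIdealOf ⟨y, hy⟩).asIdeal.primeCompl
  exact RingHom.essFiniteType_algebraMap.mpr this

/-- A discrete valuation ring of `κ(x)` realising a specialization of the image of `x`. -/
theorem exists_dvr_specializes [IsLocallyNoetherian Y] (p : X ⟶ Y) [LocallyOfFiniteType p] (x : X)
    (y' : Y) (hsp : p.base x ⤳ y') (hne : y' ≠ p.base x) :
    ∃ (A : ValuationSubring (X.residueField x)) (h : Spec (CommRingCat.of A) ⟶ Y),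
      IsDiscreteValuationRing A ∧ h.base (IsLocalRing.closedPoint A) = y' ∧
      Spec.map (CommRingCat.ofHom A.subtype) ≫ h = X.fromSpecResidueField x ≫ p := by
  let φ : Y.presheaf.stalk y' ⟶ X.residueField x :=
    Y.presheaf.stalkSpecializes hsp ≫ p.stalkMap x ≫ X.residue x
  have hw : Spec.map φ ≫ Y.fromSpecStalk y' = X.fromSpecResidueField x ≫ p := by
    rw [Scheme.fromSpecResidueField, Category.assoc, ← Scheme.SpecMap_stalkMap_fromSpecStalk,
      ← Scheme.SpecMap_stalkSpecializes_fromSpecStalk hsp]
    simp_rw [← Spec.map_comp_assoc]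
    rfl
  have hess : φ.hom.EssFiniteType := by
    refine (essFiniteType_stalkSpecializes hsp).comp ?_
    refine RingHom.EssFiniteType.comp (LocallyOfFiniteType.stalkMap p x) ?_
    exact (RingHom.FiniteType.of_surjective _ (X.residue_surjective x)).essFiniteType
  have hker : RingHom.ker φ.hom ≠ maximalIdeal (Y.presheaf.stalk y') := by
    intro h
    apply hne
    have h1 : (Spec.map φ) (closedPoint (X.residueField x)) = closedPoint (Y.presheaf.stalk y') := by
      apply PrimeSpectrum.ext
      change (maximalIdeal (X.residueField x)).comap φ.hom = _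
      rw [isField_iff_maximalIdeal_eq.mp (Field.toIsField _)]
      exact h
    have h2 := congrArg (fun g : Spec (X.residueField x) ⟶ Y => g (closedPoint _)) hw
    change Y.fromSpecStalk y' ((Spec.map φ) (closedPoint _)) = p (X.fromSpecResidueField x _) at h2
    rw [h1] at h2
    exact Y.fromSpecStalk_closedPoint.symm.trans (h2.trans (congrArg p (Scheme.fromSpecResidueField_apply _ _)))
  obtain ⟨A, hA, hmem, hlt⟩ := exists_dvr _ _ φ.hom hess hker
  let ψ : Y.presheaf.stalk y' ⟶ CommRingCat.of A := CommRingCat.ofHom (φ.hom.codRestrict A.toSubring hmem)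
  haveI : IsLocalHom ψ.hom := ⟨fun a ha => by
    by_contra hna
    have h1 := (A.valuation_eq_one_iff (⟨φ.hom a, hmem a⟩ : A)).mp ha
    exact (hlt a hna).ne h1⟩
  refine ⟨A, Spec.map ψ ≫ Y.fromSpecStalk y', hA, ?_, ?_⟩
  · change Y.fromSpecStalk y' ((Spec.map ψ) (closedPoint A)) = y'
    have : Spec.map ψ (closedPoint A) = closedPoint (Y.presheaf.stalk y') := comap_closedPoint ψ.hom
    exact (congrArg (Y.fromSpecStalk y') this).trans Y.fromSpecStalk_closedPoint
  · rw [← Category.assoc, ← Spec.map_comp, ← hw]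
    rfl

end Groth.Agent.DVRVal
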