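import Mathlib
import Groth.Agent.Lib.DVRVal.Basic
import Groth.Agent.Lib.DVRVal.Univ

/-!
The valuative criteria with discrete valuation rings over a locally Noetherian base.
-/

universe u

open CategoryTheory CategoryTheory.Limits AlgebraicGeometry TopologicalSpace IsLocalRing

namespace Groth.Agent.DVRVal

variable {X Y : Scheme.{u}}

lemma isClosedMap_of_isPullback {P T : Scheme.{u}} {f : X ⟶ Y} {a : P ⟶ X} {b : P ⟶ T} {g : T ⟶ Y}
    (h : IsPullback a b f g) (hc : IsClosedMap (pullback.snd f g)) : IsClosedMap b := by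
  have e : b = h.isoPullback.hom ≫ pullback.snd f g := h.isoPullback_hom_snd.symm
  rw [e]
  exact hc.comp h.isoPullback.hom.homeomorph.isClosedMap

/-- A quasi-compact morphism is universally closed once its base changes along morphisms locally of
finite type are closed maps. -/
theorem universallyClosed_of_finiteType (f : X ⟶ Y) [QuasiCompact f]
    (H : ∀ {Y' : Scheme.{u}} (g : Y' ⟶ Y), LocallyOfFiniteType g → IsClosedMap (pullback.snd f g)) :
    UniversallyClosed f := by
  constructor
  intro X' T i₁ g f' hsq C hC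
  rw [← isOpen_compl_iff, isOpen_iff_forall_mem_open]
  intro t' ht'
  obtain ⟨_, ⟨U, hU, rfl⟩, htU, -⟩ :=
    Y.isBasis_affineOpens.exists_subset_of_mem_open (Set.mem_univ (g t')) isOpen_univ
  obtain ⟨_, ⟨V, hV, rfl⟩, htV, hVU⟩ :=
    T.isBasis_affineOpens.exists_subset_of_mem_open (show t' ∈ g ⁻¹ᵁ U from htU) (g ⁻¹ᵁ U).2
  haveI : IsOpenImmersion hU.fromSpec := IsAffineOpen.isOpenImmersion_fromSpec hU
  haveI : IsOpenImmersion hV.fromSpec := IsAffineOpen.isOpenImmersion_fromSpec hV
  have hrange : Set.range (hV.fromSpec ≫ g) ⊆ Set.range hU.fromSpec := by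
    rintro _ ⟨p, rfl⟩
    rw [hU.range_fromSpec]
    have : hV.fromSpec p ∈ (V : Set T) := hV.range_fromSpec ▸ Set.mem_range_self p
    exact hVU this
  let k := IsOpenImmersion.lift hU.fromSpec (hV.fromSpec ≫ g) hrange
  letI : Algebra Γ(Y, U) Γ(T, V) := (Spec.preimage k).hom.toAlgebra
  have hk : hV.fromSpec ≫ g = baseMap Γ(Y, U) Γ(T, V) hU.fromSpec := by
    change _ = Spec.map (Spec.preimage k) ≫ _
    rw [Spec.map_preimage, IsOpenImmersion.lift_fac]
  have hcl : IsClosedMap (pullback.snd f (baseMap Γ(Y, U) Γ(T, V) hU.fromSpec)) := by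
    refine isClosedMap_snd_baseMap f hU.fromSpec fun B' hB' => H _ ?_
    haveI : Algebra.FiniteType Γ(Y, U) B' := (Subalgebra.fg_iff_finiteType B').mp hB'
    haveI : LocallyOfFiniteType (Spec.map (CommRingCat.ofHom (algebraMap Γ(Y, U) B'))) := by
      rw [HasRingHomProperty.Spec_iff (P := @LocallyOfFiniteType)]
      exact RingHom.finiteType_algebraMap.mpr inferInstance
    infer_instance
  have hP : IsPullback (pullback.fst f' hV.fromSpec ≫ i₁) (pullback.snd f' hV.fromSpec) f
      (hV.fromSpec ≫ g) := (IsPullback.of_hasPullback f' hV.fromSpec).paste_horiz hsq.flip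
  have hb := isClosedMap_of_isPullback hP (by rw [hk]; exact hcl)
  have himg : pullback.snd f' hV.fromSpec '' (pullback.fst f' hV.fromSpec ⁻¹' C) =
      hV.fromSpec ⁻¹' (f' '' C) := by
    ext v
    constructor
    · rintro ⟨c, hc, rfl⟩
      exact ⟨_, hc, congrArg (fun φ : _ ⟶ T => φ c) pullback.condition⟩
    · rintro ⟨c, hc, e⟩
      obtain ⟨q, rfl, rfl⟩ := Scheme.Pullback.exists_preimage_pullback c v e
      exact ⟨q, hc, rfl⟩
  have hclosed : IsClosed (hV.fromSpec ⁻¹' (f' '' C)) :=
    himg ▸ hb _ (hC.preimage (Scheme.Hom.continuous _))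
  refine ⟨hV.fromSpec '' (hV.fromSpec ⁻¹' (f' '' C))ᶜ, ?_,
    hV.fromSpec.isOpenEmbedding.isOpenMap _ hclosed.isOpen_compl, ?_⟩
  · rintro _ ⟨v, hv, rfl⟩; exact hv
  · obtain ⟨v, rfl⟩ : t' ∈ Set.range hV.fromSpec := by rw [hV.range_fromSpec]; exact htV
    exact ⟨v, ht', rfl⟩

/-- Existence of lifts along discrete valuation rings. -/
def DVRExistence (f : X ⟶ Y) : Prop :=
  ∀ (A : Type u) [CommRing A] [IsDomain A] [IsDiscreteValuationRing A] (K : Type u) [Field K]
    [Algebra A K] [IsFractionRing A K] (x : Spec (CommRingCat.of K) ⟶ X) (y : Spec (CommRingCat.of A) ⟶ Y),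
      x ≫ f = Spec.map (CommRingCat.ofHom (algebraMap A K)) ≫ y →
      ∃ l : Spec (CommRingCat.of A) ⟶ X, l ≫ f = y ∧ Spec.map (CommRingCat.ofHom (algebraMap A K)) ≫ l = x

lemma DVRExistence.of_isPullback {X' Y' : Scheme.{u}} {f : X ⟶ Y} {g' : X' ⟶ X} {f' : X' ⟶ Y'}
    {g : Y' ⟶ Y} (h : IsPullback g' f' f g) (H : DVRExistence f) : DVRExistence f' := by
  intro A _ _ _ K _ _ _ x y hxy
  obtain ⟨l, hl1, hl2⟩ := H A K (x ≫ g') (y ≫ g) (by rw [Category.assoc, h.w, reassoc_of% hxy])
  refine ⟨h.lift l y hl1, h.lift_snd _ _ _, h.hom_ext ?_ ?_⟩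
  · rw [Category.assoc, h.lift_fst, hl2]
  · rw [Category.assoc, h.lift_snd, hxy]

/-- Over a locally Noetherian base, lifting along discrete valuation rings gives specializations. -/
theorem DVRExistence.specializingMap [IsLocallyNoetherian Y] {f : X ⟶ Y} [LocallyOfFiniteType f]
    (H : DVRExistence f) : SpecializingMap f := by
  intro x y' (hsp : f x ⤳ y')
  by_cases hne : y' = f x
  · exact ⟨x, specializes_rfl, hne.symm⟩
  obtain ⟨A, h, hA, hcl, hgen⟩ := exists_dvr_specializes f x y' hsp hne
  haveI := hA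
  haveI : IsFractionRing A (X.residueField x) := inferInstance
  obtain ⟨l, hl1, hl2⟩ := H A (X.residueField x) (X.fromSpecResidueField x) h hgen.symm
  refine ⟨l (closedPoint A), ?_, ?_⟩
  · have h1 : X.fromSpecResidueField x (closedPoint (X.residueField x)) = x :=
      Scheme.fromSpecResidueField_apply _ _
    rw [← hl2] at h1
    refine specializes_of_eq h1.symm |>.trans ?_
    exact (specializes_closedPoint _).map l.continuous
  · refine Eq.trans ?_ hcl
    exact congrArg (fun φ : _ ⟶ Y => φ (closedPoint A)) hl1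

/-- The discrete valuative criterion of universal closedness. -/
theorem DVRExistence.universallyClosed [IsLocallyNoetherian Y] {f : X ⟶ Y} [LocallyOfFiniteType f]
    [QuasiCompact f] (H : DVRExistence f) : UniversallyClosed f := by
  refine universallyClosed_of_finiteType f fun {Y'} g hg => ?_
  haveI := hg
  haveI : IsLocallyNoetherian Y' := LocallyOfFiniteType.isLocallyNoetherian g
  exact (isClosedMap_iff_specializingMap (pullback.snd f g)).mpr
    (DVRExistence.of_isPullback (IsPullback.of_hasPullback f g) H).specializingMap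

lemma exists_iff_fractionRing {A : Type u} [CommRing A] [IsDomain A] (K : Type u) [Field K] [Algebra A K]
    [IsFractionRing A K] :
    ∃ e : Spec (CommRingCat.of K) ≅ Spec (CommRingCat.of (FractionRing A)),
      e.hom ≫ Spec.map (CommRingCat.ofHom (algebraMap A (FractionRing A))) =
        Spec.map (CommRingCat.ofHom (algebraMap A K)) := by
  let ε := (FractionRing.algEquiv A K)
  let e : CommRingCat.of (FractionRing A) ≅ CommRingCat.of K := ε.toRingEquiv.toCommRingCatIso
  refine ⟨(Scheme.Spec.mapIso e.op), ?_⟩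
  change Spec.map e.hom ≫ _ = _
  rw [← Spec.map_comp]
  congr 1
  ext a
  exact ε.commutes a

theorem dvrExistence_of_fractionRing {f : X ⟶ Y}
    (H : ∀ (A : Type u) [CommRing A] [IsDomain A] [IsDiscreteValuationRing A]
      (x : Spec (CommRingCat.of (FractionRing A)) ⟶ X) (y : Spec (CommRingCat.of A) ⟶ Y),
      x ≫ f = Spec.map (CommRingCat.ofHom (algebraMap A (FractionRing A))) ≫ y →
      ∃ l : Spec (CommRingCat.of A) ⟶ X, l ≫ f = y ∧
        Spec.map (CommRingCat.ofHom (algebraMap A (FractionRing A))) ≫ l = x) : DVRExistence f := by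
  intro A _ _ _ K _ _ _ x y hxy
  obtain ⟨e, he⟩ := exists_iff_fractionRing (A := A) K
  obtain ⟨l, hl1, hl2⟩ := H A (e.inv ≫ x) y (by rw [Category.assoc, hxy, ← he]; simp)
  exact ⟨l, hl1, by rw [← he, Category.assoc, hl2, Iso.hom_inv_id_assoc]⟩

theorem dvrExistence_diagonal {f : X ⟶ Y}
    (H : ∀ (A : Type u) [CommRing A] [IsDomain A] [IsDiscreteValuationRing A]
      (g₁ g₂ : Spec (CommRingCat.of A) ⟶ X), g₁ ≫ f = g₂ ≫ f →
      Spec.map (CommRingCat.ofHom (algebraMap A (FractionRing A))) ≫ g₁ =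
        Spec.map (CommRingCat.ofHom (algebraMap A (FractionRing A))) ≫ g₂ → g₁ = g₂) :
    DVRExistence (pullback.diagonal f) := by
  refine dvrExistence_of_fractionRing fun A _ _ _ x y hxy => ?_
  have h1 := congrArg (· ≫ pullback.fst f f) hxy
  have h2 := congrArg (· ≫ pullback.snd f f) hxy
  simp only [Category.assoc, pullback.diagonal_fst, pullback.diagonal_snd, Category.comp_id] at h1 h2
  have he := H A (y ≫ pullback.fst f f) (y ≫ pullback.snd f f)
    (by rw [Category.assoc, Category.assoc, pullback.condition]) (h1.symm.trans h2)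
  refine ⟨y ≫ pullback.fst f f, ?_, h1.symm⟩
  apply pullback.hom_ext
  · simp
  · simp [he]

/-- The discrete valuative criterion of separatedness. -/
theorem isSeparated_of_dvr [IsLocallyNoetherian Y] (f : X ⟶ Y) [LocallyOfFiniteType f]
    (H : ∀ (A : Type u) [CommRing A] [IsDomain A] [IsDiscreteValuationRing A]
      (g₁ g₂ : Spec (CommRingCat.of A) ⟶ X), g₁ ≫ f = g₂ ≫ f →
      Spec.map (CommRingCat.ofHom (algebraMap A (FractionRing A))) ≫ g₁ =
        Spec.map (CommRingCat.ofHom (algebraMap A (FractionRing A))) ≫ g₂ → g₁ = g₂) :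
    IsSeparated f where
  isClosedImmersion_diagonal := by
    haveI : IsLocallyNoetherian X := LocallyOfFiniteType.isLocallyNoetherian f
    haveI : IsLocallyNoetherian (pullback f f) :=
      LocallyOfFiniteType.isLocallyNoetherian (pullback.fst f f ≫ f)
    have hc : IsClosedMap (pullback.diagonal f) :=
      (isClosedMap_iff_specializingMap (pullback.diagonal f)).mpr (dvrExistence_diagonal H).specializingMap
    exact .of_isPreimmersion _ hc.isClosed_range

end Groth.Agent.DVRVal
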