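import Mathlib
import Groth.Agent.Lib.DVRVal.Basic

/-!
Properness from valuation rings of the function field.
-/

universe u

open CategoryTheory CategoryTheory.Limits AlgebraicGeometry IsLocalRing TopologicalSpace

namespace Groth.Agent.DVRVal

/-- Morphisms from the spectrum of a valuation ring to a separated scheme are determined generically. -/
lemma hom_ext_valuationRing {Z : Scheme.{u}} [Z.IsSeparated] {R : Type u} [CommRing R] [IsDomain R]
    [ValuationRing R] {K : Type u} [Field K] [Algebra R K] [IsFractionRing R K]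
    (a b : Spec (CommRingCat.of R) ⟶ Z)
    (h : Spec.map (CommRingCat.ofHom (algebraMap R K)) ≫ a =
      Spec.map (CommRingCat.ofHom (algebraMap R K)) ≫ b) : a = b := by
  let S : ValuativeCommSq (terminal.from Z) :=
    { R := R, K := K, i₁ := Spec.map (CommRingCat.ofHom (algebraMap R K)) ≫ a,
      i₂ := a ≫ terminal.from Z, commSq := ⟨by simp⟩ }
  have := IsSeparated.valuativeCriterion (terminal.from Z) S
  let l₁ : S.commSq.LiftStruct := ⟨a, rfl, rfl⟩
  let l₂ : S.commSq.LiftStruct := ⟨b, h.symm, terminal.hom_ext _ _⟩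
  exact congrArg CommSq.LiftStruct.l (Subsingleton.elim l₁ l₂)

/-- Extension of a valuation subring along a field homomorphism. -/
lemma exists_comap_eq {k L : Type u} [Field k] [Field L] (φ : k →+* L) (R : ValuationSubring k) :
    ∃ A : ValuationSubring L, A.comap φ = R := by
  obtain ⟨A, hA, hloc⟩ := exists_factor_valuationRing (φ.comp R.subtype)
  refine ⟨A, ?_⟩
  ext x
  refine ⟨fun hx => ?_, fun hx => hA ⟨x, hx⟩⟩
  by_contra hxR
  have hx0 : x ≠ 0 := fun h => hxR (h ▸ R.zero_mem)
  have hinv : x⁻¹ ∈ R := (R.mem_or_inv_mem x).resolve_left hxR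
  have hu : IsUnit (⟨x⁻¹, hinv⟩ : R) := by
    refine hloc.map_nonunit _ ?_
    rw [isUnit_iff_exists_inv]
    refine ⟨⟨φ x, hx⟩, Subtype.ext ?_⟩
    change φ x⁻¹ * φ x = 1
    rw [← map_mul, inv_mul_cancel₀ hx0, map_one]
  obtain ⟨y, hy⟩ := hu.exists_right_inv
  have h1 : x⁻¹ * (y : k) = 1 := congrArg Subtype.val hy
  have : x = y := by rw [← mul_one x, ← h1, mul_inv_cancel_left₀ hx0]
  exact hxR (this ▸ y.2)

/-- The composite of a valuation subring with one of its residue field. -/
def compositeVal {K : Type u} [Field K] (V₀ : ValuationSubring K) (R₁ : ValuationSubring (ResidueField V₀)) :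
    ValuationSubring K :=
  { ((R₁.toSubring.comap (residue V₀)).map V₀.subtype) with
    mem_or_inv_mem' := fun x => by
      rcases V₀.mem_or_inv_mem x with hx | hx
      · by_cases hu : IsUnit (⟨x, hx⟩ : V₀)
        · obtain ⟨y, hy⟩ := hu.exists_right_inv
          have hy' : (y : K) = x⁻¹ := by
            have h1 : x * (y : K) = 1 := congrArg Subtype.val hy
            exact eq_inv_of_mul_eq_one_right h1
          rcases R₁.mem_or_inv_mem (residue V₀ ⟨x, hx⟩) with h | h
          · exact Or.inl ⟨⟨x, hx⟩, h, rfl⟩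
          · refine Or.inr ⟨y, ?_, hy'⟩
            have h1 : residue V₀ ⟨x, hx⟩ * residue V₀ y = 1 := by rw [← map_mul, hy, map_one]
            change residue V₀ y ∈ R₁
            rwa [eq_inv_of_mul_eq_one_right h1]
        · exact Or.inl ⟨⟨x, hx⟩, by
            change residue V₀ ⟨x, hx⟩ ∈ R₁
            rw [(residue_eq_zero_iff _).mpr hu]; exact R₁.zero_mem, rfl⟩
      · by_cases hu : IsUnit (⟨x⁻¹, hx⟩ : V₀)
        · obtain ⟨y, hy⟩ := hu.exists_right_inv
          have hy' : (y : K) = x := by
            have h1 : x⁻¹ * (y : K) = 1 := congrArg Subtype.val hy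
            rw [eq_inv_of_mul_eq_one_right h1, inv_inv]
          rcases R₁.mem_or_inv_mem (residue V₀ y) with h | h
          · exact Or.inl ⟨y, h, hy'⟩
          · refine Or.inr ⟨⟨x⁻¹, hx⟩, ?_, rfl⟩
            have h1 : residue V₀ y * residue V₀ ⟨x⁻¹, hx⟩ = 1 := by rw [← map_mul, mul_comm, hy, map_one]
            change residue V₀ ⟨x⁻¹, hx⟩ ∈ R₁
            rwa [eq_inv_of_mul_eq_one_right h1]
        · exact Or.inr ⟨⟨x⁻¹, hx⟩, by
            change residue V₀ ⟨x⁻¹, hx⟩ ∈ R₁
            rw [(residue_eq_zero_iff _).mpr hu]; exact R₁.zero_mem, rfl⟩ }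

variable {X Y : Scheme.{u}} [IsIntegral X]

/-- The map from a local ring of the target to the function field of the source. -/
noncomputable abbrev toFunField (f : X ⟶ Y) (y : Y) (hy : f (genericPoint X) ⤳ y) :
    Y.presheaf.stalk y ⟶ X.functionField :=
  Y.presheaf.stalkSpecializes hy ≫ f.stalkMap (genericPoint X)

lemma fromSpecStalk_generic (x : X) :
    Spec.map (CommRingCat.ofHom (algebraMap (X.presheaf.stalk x) X.functionField)) ≫ X.fromSpecStalk x =
      X.fromSpecStalk (genericPoint X) :=
  Scheme.SpecMap_stalkSpecializes_fromSpecStalk (genericPoint_specializes x)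

/-- Every valuation subring of the function field dominating a point of `Y` has a centre on `X`. -/
def HasCentres (f : X ⟶ Y) : Prop :=
  ∀ (V : ValuationSubring X.functionField) (y : Y) (hy : f (genericPoint X) ⤳ y),
    (∀ a, (toFunField f y hy).hom a ∈ V) →
    (∀ a ∈ maximalIdeal (Y.presheaf.stalk y), V.valuation ((toFunField f y hy).hom a) < 1) →
    ∃ x : X, ∀ a, algebraMap (X.presheaf.stalk x) X.functionField a ∈ V

theorem HasCentres.existence [X.IsSeparated] [Y.IsSeparated] {f : X ⟶ Y} (hc : HasCentres f) :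
    ValuativeCriterion.Existence f := by
  rintro ⟨R, L, i₁, i₂, ⟨w⟩⟩
  letI : Field (CommRingCat.of L) := ‹Field L›
  obtain ⟨⟨ζ, e⟩, rfl⟩ := (Scheme.SpecToEquivOfField L X).symm.surjective i₁
  change (Spec.map e ≫ X.fromSpecResidueField ζ) ≫ f = _ at w
  set y := i₂ (closedPoint R) with hy_def
  have hgen : i₂ (Spec.map (CommRingCat.ofHom (algebraMap R L)) (closedPoint L)) = f ζ := by
    have := congrArg (fun φ : Spec (CommRingCat.of L) ⟶ Y => φ (closedPoint L)) w
    refine this.symm.trans (congrArg f ?_)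
    change X.fromSpecResidueField ζ (Spec.map e (closedPoint L)) = ζ
    exact Scheme.fromSpecResidueField_apply _ _
  have hζy : f ζ ⤳ y := hgen ▸ (specializes_closedPoint _).map i₂.continuous
  have hyξ : f (genericPoint X) ⤳ y := ((genericPoint_specializes ζ).map f.continuous).trans hζy
  let b : Y.presheaf.stalk y ⟶ X.presheaf.stalk ζ := Y.presheaf.stalkSpecializes hζy ≫ f.stalkMap ζ
  have hb : toFunField f y hyξ = b ≫ X.presheaf.stalkSpecializes (genericPoint_specializes ζ) := by
    simp only [toFunField, b, Category.assoc]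
    rw [← Scheme.Hom.stalkSpecializes_stalkMap, TopCat.Presheaf.stalkSpecializes_comp_assoc]
  have hcompat : Scheme.stalkClosedPointTo i₂ ≫ CommRingCat.ofHom (algebraMap R L) =
      b ≫ X.residue ζ ≫ e := by
    rw [← Spec.map_inj, ← cancel_mono (Y.fromSpecStalk y)]
    simp only [Spec.map_comp, Category.assoc, b]
    rw [Scheme.Spec_stalkClosedPointTo_fromSpecStalk, ← w,
      Scheme.SpecMap_stalkSpecializes_fromSpecStalk, Scheme.SpecMap_stalkMap_fromSpecStalk,
      Scheme.fromSpecResidueField]
    simp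
  -- valuation ring of the function field dominating `ζ`
  obtain ⟨V₀, hV₀, hloc₀⟩ := exists_factor_valuationRing (algebraMap (X.presheaf.stalk ζ) X.functionField)
  let ι₀ : X.presheaf.stalk ζ →+* V₀ := (algebraMap (X.presheaf.stalk ζ) X.functionField).codRestrict _ hV₀
  haveI : IsLocalHom ι₀ := hloc₀
  let jκ : ResidueField (X.presheaf.stalk ζ) →+* ResidueField V₀ := ResidueField.map ι₀
  have hjκ (a : X.presheaf.stalk ζ) : jκ (residue _ a) = residue V₀ (ι₀ a) := ResidueField.map_residue _ _
  -- the valuation ring of the residue field of `ζ`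
  let RL : ValuationSubring L := (ValuationRing.valuation R L).valuationSubring
  have hRL (z : L) : z ∈ RL ↔ z ∈ (algebraMap R L).range :=
    ValuationRing.mem_integer_iff R L z
  let eh : ResidueField (X.presheaf.stalk ζ) →+* L := e.hom
  let R' : ValuationSubring (ResidueField (X.presheaf.stalk ζ)) := RL.comap eh
  obtain ⟨R₁, hR₁⟩ := exists_comap_eq jκ R'
  have hR₁' (z : ResidueField (X.presheaf.stalk ζ)) : jκ z ∈ R₁ ↔ eh z ∈ (algebraMap R L).range := by
    rw [← ValuationSubring.mem_comap (f := jκ), hR₁]; exact hRL _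
  let V := compositeVal V₀ R₁
  have hbe (a : Y.presheaf.stalk y) : eh (residue _ (b.hom a)) =
      algebraMap R L ((Scheme.stalkClosedPointTo i₂).hom a) :=
    (congrArg (fun φ : Y.presheaf.stalk y ⟶ CommRingCat.of L => φ.hom a) hcompat).symm
  have hbmem (a : Y.presheaf.stalk y) : residue V₀ (ι₀ (b.hom a)) ∈ R₁ := by
    rw [← hjκ, hR₁', hbe]; exact ⟨_, rfl⟩
  have hfun (a : Y.presheaf.stalk y) : (toFunField f y hyξ).hom a = (ι₀ (b.hom a) : X.functionField) := by
    rw [hb]; rfl
  obtain ⟨x, hx⟩ := hc V y hyξ (fun a => ⟨ι₀ (b.hom a), hbmem a, (hfun a).symm⟩) fun a ha => by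
    have hmem : (toFunField f y hyξ).hom a ∈ V := ⟨ι₀ (b.hom a), hbmem a, (hfun a).symm⟩
    refine (V.valuation_le_one ⟨_, hmem⟩).lt_of_ne fun h1 => ?_
    obtain ⟨⟨c, hc'⟩, hac⟩ := ((V.valuation_eq_one_iff ⟨_, hmem⟩).mpr h1).exists_right_inv
    obtain ⟨c₀, hc₀, rfl⟩ := hc'
    have h2 : ι₀ (b.hom a) * c₀ = 1 := Subtype.ext (by
      have := congrArg Subtype.val hac
      exact (congrArg (· * (c₀ : X.functionField)) (hfun a)).symm.trans this)
    have h3 : jκ (residue _ (b.hom a)) * residue V₀ c₀ = 1 := by rw [hjκ, ← map_mul, h2, map_one]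
    have h4 : jκ ((residue _ (b.hom a))⁻¹) = residue V₀ c₀ := by
      rw [map_inv₀]; exact (eq_inv_of_mul_eq_one_right h3).symm
    have h5 : eh ((residue _ (b.hom a))⁻¹) ∈ (algebraMap R L).range := by
      rw [← hR₁', h4]; exact hc₀
    obtain ⟨r, hr⟩ := h5
    rw [map_inv₀, hbe] at hr
    have hne : algebraMap R L ((Scheme.stalkClosedPointTo i₂).hom a) ≠ 0 := by
      rw [← hbe]; intro h0
      rw [(map_eq_zero eh).mp h0, map_zero, zero_mul] at h3
      exact zero_ne_one h3
    refine (map_nonunit (Scheme.stalkClosedPointTo i₂).hom a ha) (IsUnit.of_mul_eq_one r ?_)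
    apply IsFractionRing.injective R L
    rw [map_mul, hr, mul_inv_cancel₀ hne, map_one]
  -- `ζ` specialises to the centre
  let g : Spec (CommRingCat.of V) ⟶ X :=
    Spec.map (CommRingCat.ofHom ((algebraMap (X.presheaf.stalk x) X.functionField).codRestrict V.toSubring hx)) ≫
      X.fromSpecStalk x
  have hVV₀ : V.toSubring ≤ V₀.toSubring := by
    rintro z ⟨c, -, rfl⟩; exact c.2
  let g₀ : Spec (CommRingCat.of V₀) ⟶ X := Spec.map (CommRingCat.ofHom (Subring.inclusion hVV₀)) ≫ g
  let h₀ : Spec (CommRingCat.of V₀) ⟶ X := Spec.map (CommRingCat.ofHom ι₀) ≫ X.fromSpecStalk ζ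
  have hgh : g₀ = h₀ := by
    refine hom_ext_valuationRing (K := X.functionField) _ _ ?_
    simp only [g₀, g, h₀, ← Spec.map_comp_assoc, ← CommRingCat.ofHom_comp]
    exact (fromSpecStalk_generic x).trans (fromSpecStalk_generic ζ).symm
  have hζx : ζ ⤳ x := by
    have h1 : h₀ (closedPoint V₀) = ζ := by
      change X.fromSpecStalk ζ (Spec.map (CommRingCat.ofHom ι₀) (closedPoint V₀)) = ζ
      exact (congrArg _ (comap_closedPoint ι₀)).trans (X.fromSpecStalk_closedPoint)
    have h2 : g (closedPoint V) ⤳ x := by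
      have : g (closedPoint V) ∈ Set.range (X.fromSpecStalk x) := ⟨_, rfl⟩
      rw [Scheme.range_fromSpecStalk] at this
      exact this
    rw [← h1, ← hgh]
    exact ((specializes_closedPoint _).map g.continuous).trans h2
  -- the lift
  have hlift (a : X.presheaf.stalk x) :
      eh (residue _ ((X.presheaf.stalkSpecializes hζx).hom a)) ∈ (algebraMap R L).range := by
    rw [← hR₁', hjκ]
    obtain ⟨c, hc, hca⟩ := hx a
    have : c = ι₀ ((X.presheaf.stalkSpecializes hζx).hom a) := by
      refine Subtype.ext (hca.trans ?_)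
      exact (congrArg (fun φ : X.presheaf.stalk x ⟶ X.presheaf.stalk (genericPoint X) => φ.hom a)
        (TopCat.Presheaf.stalkSpecializes_comp _ (genericPoint_specializes ζ) hζx)).symm
    exact this ▸ hc
  let εR : R ≃+* (algebraMap R L).range := RingEquiv.ofBijective (algebraMap R L).rangeRestrict
    ⟨fun a c h => IsFractionRing.injective R L (congrArg Subtype.val h),
      (algebraMap R L).rangeRestrict_surjective⟩
  let χ : X.presheaf.stalk x →+* R := εR.symm.toRingHom.comp
    ((eh.comp ((X.residue ζ).hom.comp (X.presheaf.stalkSpecializes hζx).hom)).codRestrict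
      (algebraMap R L).range hlift)
  have hχ : CommRingCat.ofHom χ ≫ CommRingCat.ofHom (algebraMap R L) =
      X.presheaf.stalkSpecializes hζx ≫ X.residue ζ ≫ e := by
    ext a
    exact congrArg Subtype.val (εR.apply_symm_apply ⟨_, hlift a⟩)
  let l : Spec (CommRingCat.of R) ⟶ X := Spec.map (CommRingCat.ofHom χ) ≫ X.fromSpecStalk x
  have hl : Spec.map (CommRingCat.ofHom (algebraMap R L)) ≫ l = Spec.map e ≫ X.fromSpecResidueField ζ := by
    simp only [l, ← Spec.map_comp_assoc, hχ]
    rw [Spec.map_comp, Spec.map_comp, Category.assoc, Category.assoc,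
      Scheme.SpecMap_stalkSpecializes_fromSpecStalk]
    rfl
  refine ⟨⟨l, hl, hom_ext_valuationRing (K := L) _ _ ?_⟩⟩
  rw [reassoc_of% hl]
  simpa using w

omit [IsIntegral X] in
/-- The discrete variant implies the general one. -/
theorem hasCentres_of_dvr [IsIntegral X] [Y.IsSeparated] [IsLocallyNoetherian Y] {f : X ⟶ Y} [LocallyOfFiniteType f]
    [QuasiCompact f]
    (h : ∀ (R : ValuationSubring X.functionField), IsDiscreteValuationRing R →
      ∀ (y : Y) (hy : f (genericPoint X) ⤳ y), (∀ a, (toFunField f y hy).hom a ∈ R) →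
        (∀ a ∈ maximalIdeal (Y.presheaf.stalk y), R.valuation ((toFunField f y hy).hom a) < 1) →
        ∃ x : X, (∀ a, algebraMap (X.presheaf.stalk x) X.functionField a ∈ R) ∧
          ∀ a ∈ maximalIdeal (X.presheaf.stalk x),
            R.valuation (algebraMap (X.presheaf.stalk x) X.functionField a) < 1) :
    HasCentres f := by
  intro V y hy hmem hlt
  by_contra hno
  push Not at hno
  obtain ⟨_, ⟨U, hU, rfl⟩, hyU, -⟩ :=
    Y.isBasis_affineOpens.exists_subset_of_mem_open (Set.mem_univ y) isOpen_univ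
  obtain ⟨s, hsub, hsfin, heq⟩ := (Scheme.isBasis_affineOpens X).exists_finite_of_isCompact
    (U := f ⁻¹ᵁ U) (f.isCompact_preimage (IsAffineOpen.isCompact hU))
  have key : ∀ W : X.Opens, W ∈ s → ∃ c : X.functionField, c ∉ V ∧
      ∀ x ∈ W, c ∈ Set.range (algebraMap (X.presheaf.stalk x) X.functionField) := by
    intro W hW
    by_cases hne : (W : Set X).Nonempty
    · haveI : Nonempty W := hne.to_subtype
      by_contra hall
      push Not at hall
      have hall' (a : Γ(X, W)) : X.germToFunctionField W a ∈ V := by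
        by_contra ha
        obtain ⟨x, hxW, hx⟩ := hall _ ha
        exact hx ⟨X.presheaf.germ W x hxW a, X.algebraMap_germ_eq_germToFunctionField hxW a⟩
      let ψ : Γ(X, W) →+* V := (X.germToFunctionField W).hom.codRestrict V.toSubring hall'
      let p : PrimeSpectrum Γ(X, W) := ⟨(maximalIdeal V).comap ψ, Ideal.IsPrime.comap ψ⟩
      have hWa : IsAffineOpen W := hsub hW
      let x := hWa.fromSpec p
      have hxW : x ∈ W := hWa.range_fromSpec.le (Set.mem_range_self p)
      obtain ⟨a, ha⟩ := hno x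
      apply ha
      letI : Algebra Γ(X, W) (X.presheaf.stalk x) := (X.presheaf.germ W x hxW).hom.toAlgebra
      haveI : IsLocalization.AtPrime (X.presheaf.stalk x) p.asIdeal := hWa.isLocalization_stalk' p hxW
      obtain ⟨c, d, rfl⟩ := IsLocalization.exists_mk'_eq p.asIdeal.primeCompl a
      have hd : IsUnit (ψ d) := by
        by_contra hd; exact d.2 hd
      obtain ⟨z, hz⟩ := hd.exists_right_inv
      have h1 : algebraMap (X.presheaf.stalk x) X.functionField (IsLocalization.mk' _ c d) *
          X.germToFunctionField W d = X.germToFunctionField W c := by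
        rw [← X.algebraMap_germ_eq_germToFunctionField hxW, ← X.algebraMap_germ_eq_germToFunctionField hxW,
          ← map_mul]
        exact congrArg _ (IsLocalization.mk'_spec _ c d)
      have h2 : X.germToFunctionField W d * (z : X.functionField) = 1 := congrArg Subtype.val hz
      have : algebraMap (X.presheaf.stalk x) X.functionField (IsLocalization.mk' _ c d) =
          X.germToFunctionField W c * z := by rw [← h1, mul_assoc, h2, mul_one]
      rw [this]
      exact V.mul_mem _ _ (hall' c) z.2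
    · obtain ⟨a, ha⟩ := hno (genericPoint X)
      exact ⟨_, ha, fun x hx => absurd ⟨x, hx⟩ hne⟩
  choose c hcV hcW using key
  haveI : Finite s := hsfin
  let φY := (toFunField f y hy).hom
  letI : Algebra (Y.presheaf.stalk y) X.functionField := φY.toAlgebra
  let gens : Set X.functionField := Set.range fun W : s => (c W.1 W.2)⁻¹
  let B := Algebra.adjoin (Y.presheaf.stalk y) gens
  haveI : Algebra.FiniteType (Y.presheaf.stalk y) B :=
    (Subalgebra.fg_iff_finiteType B).mp (Subalgebra.fg_def.mpr ⟨gens, Set.finite_range _, rfl⟩)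
  haveI : IsNoetherianRing B := Algebra.FiniteType.isNoetherianRing (Y.presheaf.stalk y) B
  have hinv (W : X.Opens) (hW : W ∈ s) : (c W hW)⁻¹ ∈ V :=
    (V.mem_or_inv_mem _).resolve_left (hcV W hW)
  have hBV : B.toSubring ≤ V.toSubring := by
    intro z hz
    induction hz using Algebra.adjoin_induction with
    | mem z hz => obtain ⟨W, rfl⟩ := hz; exact hinv W.1 W.2
    | algebraMap a => exact hmem a
    | add a b _ _ ha hb => exact add_mem ha hb
    | mul a b _ _ ha hb => exact mul_mem ha hb
  let m : Ideal B := (maximalIdeal V).comap (Subring.inclusion hBV)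
  haveI : m.IsPrime := Ideal.IsPrime.comap _
  have hu (z : m.primeCompl) : IsUnit (algebraMap B X.functionField z) := IsUnit.mk0 _ fun h0 => z.2 (by
    rw [Subtype.ext (show ((z : B) : X.functionField) = ((0 : B) : X.functionField) from h0)]
    exact zero_mem _)
  let φ : Localization.AtPrime m →+* X.functionField := IsLocalization.lift hu
  have hess : φ.EssFiniteType := by
    refine RingHom.EssFiniteType.of_comp ((algebraMap B (Localization.AtPrime m)).comp
      (algebraMap (Y.presheaf.stalk y) B)) ?_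
    rw [← RingHom.comp_assoc, IsLocalization.lift_comp]
    exact (essFiniteType_stalkSpecializes hy).comp (LocallyOfFiniteType.stalkMap f _)
  have hinvB (W : X.Opens) (hW : W ∈ s) : (c W hW)⁻¹ ∈ B := Algebra.subset_adjoin ⟨⟨W, hW⟩, rfl⟩
  have hgm (W : X.Opens) (hW : W ∈ s) : (⟨(c W hW)⁻¹, hinvB W hW⟩ : B) ∈ m := by
    change ¬ IsUnit (⟨(c W hW)⁻¹, hinv W hW⟩ : V)
    intro hu
    obtain ⟨z, hz⟩ := hu.exists_right_inv
    have h1 : (c W hW)⁻¹ * (z : X.functionField) = 1 := congrArg Subtype.val hz
    have h2 := eq_inv_of_mul_eq_one_right h1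
    rw [inv_inv] at h2
    exact hcV W hW (h2 ▸ z.2)
  have hyξ : (genericPoint X) ∈ f ⁻¹ᵁ U := hy.mem_open U.2 hyU
  have hcover : ∀ x ∈ f ⁻¹ᵁ U, ∃ W ∈ s, x ∈ W := fun x hx => by
    rw [heq] at hx
    obtain ⟨W, hW, hxW⟩ := Opens.mem_sSup.mp hx
    exact ⟨W, hW, hxW⟩
  obtain ⟨W₀, hW₀, -⟩ := hcover _ hyξ
  have hker : RingHom.ker φ ≠ maximalIdeal (Localization.AtPrime m) := by
    intro e
    have h1 : algebraMap B (Localization.AtPrime m) ⟨_, hinvB W₀ hW₀⟩ ∈ maximalIdeal _ :=
      (IsLocalization.AtPrime.to_map_mem_maximal_iff _ m _).mpr (hgm W₀ hW₀)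
    rw [← e, RingHom.mem_ker, IsLocalization.lift_eq] at h1
    exact inv_ne_zero (fun h0 => hcV W₀ hW₀ (by rw [h0]; exact V.zero_mem)) h1
  obtain ⟨R, hR, hRmem, hRlt⟩ := exists_dvr _ X.functionField φ hess hker
  have hRy (a : Y.presheaf.stalk y) : φY a ∈ R := by
    have := hRmem (algebraMap B _ (algebraMap _ B a)); rwa [IsLocalization.lift_eq] at this
  have hRm (a : Y.presheaf.stalk y) (ha : a ∈ maximalIdeal _) : R.valuation (φY a) < 1 := by
    have := hRlt (algebraMap B _ (algebraMap _ B a))
      ((IsLocalization.AtPrime.to_map_mem_maximal_iff _ m _).mpr ((V.valuation_lt_one_iff _).mpr (hlt a ha)))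
    rwa [IsLocalization.lift_eq] at this
  obtain ⟨x, hxR, hxm⟩ := h R hR y hy hRy hRm
  let px : X.presheaf.stalk x ⟶ CommRingCat.of R :=
    CommRingCat.ofHom ((algebraMap (X.presheaf.stalk x) X.functionField).codRestrict R.toSubring hxR)
  let py : Y.presheaf.stalk y ⟶ CommRingCat.of R := CommRingCat.ofHom (φY.codRestrict R.toSubring hRy)
  haveI : IsLocalHom px.hom := ⟨fun a ha => by
    by_contra hna
    exact (hxm a hna).ne ((R.valuation_eq_one_iff (⟨_, hxR a⟩ : R)).mp ha)⟩
  haveI : IsLocalHom py.hom := ⟨fun a ha => by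
    by_contra hna
    exact (hRm a hna).ne ((R.valuation_eq_one_iff (⟨_, hRy a⟩ : R)).mp ha)⟩
  have hfx : f x = y := by
    have heq : Spec.map py ≫ Y.fromSpecStalk y = (Spec.map px ≫ X.fromSpecStalk x) ≫ f := by
      refine hom_ext_valuationRing (K := X.functionField) _ _ ?_
      rw [← Category.assoc, ← Spec.map_comp, ← Category.assoc, ← Category.assoc, ← Spec.map_comp]
      change Spec.map (toFunField f y hy) ≫ Y.fromSpecStalk y =
        (Spec.map (X.presheaf.stalkSpecializes (genericPoint_specializes x)) ≫ X.fromSpecStalk x) ≫ f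
      rw [Scheme.SpecMap_stalkSpecializes_fromSpecStalk, Spec.map_comp, Category.assoc,
        Scheme.SpecMap_stalkSpecializes_fromSpecStalk, Scheme.SpecMap_stalkMap_fromSpecStalk]
    have h3 := congrArg (fun φ : Spec (CommRingCat.of R) ⟶ Y => φ (closedPoint R)) heq
    change Y.fromSpecStalk y (Spec.map py (closedPoint R)) =
      f (X.fromSpecStalk x (Spec.map px (closedPoint R))) at h3
    have e1 : Spec.map py (closedPoint R) = closedPoint (Y.presheaf.stalk y) := comap_closedPoint py.hom
    have e2 : Spec.map px (closedPoint R) = closedPoint (X.presheaf.stalk x) := comap_closedPoint px.hom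
    rw [e1, e2] at h3
    exact (Y.fromSpecStalk_closedPoint.symm.trans (h3.trans (congrArg f X.fromSpecStalk_closedPoint))).symm
  obtain ⟨W, hW, hxW⟩ := hcover x (show f x ∈ U from hfx ▸ hyU)
  obtain ⟨a, ha⟩ := hcW W hW x hxW
  have hcR : c W hW ∈ R := ha ▸ hxR a
  have h1 := hRlt (algebraMap B (Localization.AtPrime m) ⟨_, hinvB W hW⟩)
    ((IsLocalization.AtPrime.to_map_mem_maximal_iff _ m _).mpr (hgm W hW))
  rw [IsLocalization.lift_eq] at h1
  change R.valuation (c W hW)⁻¹ < 1 at h1
  have hne : c W hW ≠ 0 := fun h0 => hcV W hW (by rw [h0]; exact V.zero_mem)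
  have := mul_lt_one_of_lt_of_le h1 ((R.valuation_le_one_iff _).mpr hcR)
  rw [← map_mul, inv_mul_cancel₀ hne, map_one] at this
  exact lt_irrefl _ this

end Groth.Agent.DVRVal
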