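import Mathlib
import Groth.Agent.Lib.DVRVal.Criterion

/-!
Universal closedness is tested on affine spaces.
-/

universe u

open CategoryTheory CategoryTheory.Limits AlgebraicGeometry

namespace Groth.Agent.DVRVal

variable {X Y : Scheme.{u}}

lemma isClosedMap_of_isImmersion {P T : Scheme.{u}} (f : X ⟶ Y) (g : T ⟶ Y) {a : P ⟶ X} {b : P ⟶ T}
    (h : IsPullback a b f g) [IsImmersion g] (hf : IsClosedMap f) : IsClosedMap b := by
  haveI : IsImmersion a := MorphismProperty.of_isPullback h.flip inferInstance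
  intro C hC
  obtain ⟨D, hD, rfl⟩ := a.isEmbedding.isInducing.isClosed_iff.mp hC
  have : b '' (a ⁻¹' D) = g ⁻¹' (f '' D) := by
    ext t
    constructor
    · rintro ⟨c, hc, rfl⟩
      exact ⟨a c, hc, congrArg (fun φ : P ⟶ Y => φ c) h.w⟩
    · rintro ⟨x, hx, e⟩
      obtain ⟨q, rfl, rfl⟩ := Scheme.exists_preimage_of_isPullback h x t e
      exact ⟨q, hx, rfl⟩
  rw [this]
  exact (hf D hD).preimage g.continuous

/-- A finitely generated algebra over an affine open embeds in an affine space over the base. -/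
lemma exists_immersion_affineSpace {R B : Type u} [CommRing R] [CommRing B] [Algebra R B]
    [Algebra.FiniteType R B] (j : Spec (CommRingCat.of R) ⟶ Y) [IsOpenImmersion j] :
    ∃ (n : ℕ) (g : Spec (CommRingCat.of B) ⟶ 𝔸(ULift.{u} (Fin n); Y)),
      IsImmersion g ∧ g ≫ (𝔸(ULift.{u} (Fin n); Y) ↘ Y) = baseMap R B j := by
  obtain ⟨n, φ, hφ⟩ := Algebra.FiniteType.iff_quotient_mvPolynomial''.mp ‹Algebra.FiniteType R B›
  let ψ : MvPolynomial (ULift.{u} (Fin n)) R →ₐ[R] B := φ.comp (MvPolynomial.rename ULift.down)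
  have hψ : Function.Surjective ψ :=
    hφ.comp (MvPolynomial.rename_surjective _ ULift.down_surjective)
  haveI : IsClosedImmersion (Spec.map (CommRingCat.ofHom ψ.toRingHom)) :=
    IsClosedImmersion.spec_of_surjective _ hψ
  haveI : IsOpenImmersion (AffineSpace.map (ULift.{u} (Fin n)) j) :=
    MorphismProperty.of_isPullback (AffineSpace.isPullback_map j).flip inferInstance
  refine ⟨n, Spec.map (CommRingCat.ofHom ψ.toRingHom) ≫
    (AffineSpace.SpecIso (ULift.{u} (Fin n)) (CommRingCat.of R)).inv ≫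
      AffineSpace.map (ULift.{u} (Fin n)) j, inferInstance, ?_⟩
  rw [Category.assoc, Category.assoc, AffineSpace.map_over, AffineSpace.SpecIso_inv_over_assoc,
    ← Spec.map_comp_assoc]
  congr 2
  ext r
  exact ψ.commutes r

/-- A quasi-compact morphism whose base change to every affine space over the target is closed is
universally closed. -/
theorem universallyClosed_of_affineSpace (f : X ⟶ Y) [QuasiCompact f]
    (H : ∀ n : ℕ, IsClosedMap (pullback.snd f (𝔸(ULift.{u} (Fin n); Y) ↘ Y))) : UniversallyClosed f := by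
  refine universallyClosed_of_finiteType f fun {Y'} g hg => ?_
  haveI := hg
  intro C hC
  rw [← isOpen_compl_iff, isOpen_iff_forall_mem_open]
  intro t' ht'
  obtain ⟨_, ⟨U, hU, rfl⟩, htU, -⟩ :=
    Y.isBasis_affineOpens.exists_subset_of_mem_open (Set.mem_univ (g t')) isOpen_univ
  obtain ⟨_, ⟨V, hV, rfl⟩, htV, hVU⟩ :=
    Y'.isBasis_affineOpens.exists_subset_of_mem_open (show t' ∈ g ⁻¹ᵁ U from htU) (g ⁻¹ᵁ U).2
  haveI : IsOpenImmersion hU.fromSpec := IsAffineOpen.isOpenImmersion_fromSpec hU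
  haveI : IsOpenImmersion hV.fromSpec := IsAffineOpen.isOpenImmersion_fromSpec hV
  letI : Algebra Γ(Y, U) Γ(Y', V) := (g.appLE U V hVU).hom.toAlgebra
  haveI : Algebra.FiniteType Γ(Y, U) Γ(Y', V) :=
    LocallyOfFiniteType.finiteType_appLE (f := g) hU hV hVU
  obtain ⟨n, a, ha, hover⟩ := exists_immersion_affineSpace (B := Γ(Y', V)) hU.fromSpec
  haveI := ha
  have hk : baseMap Γ(Y, U) Γ(Y', V) hU.fromSpec = hV.fromSpec ≫ g :=
    IsAffineOpen.SpecMap_appLE_fromSpec g hU hV hVU
  have hP : IsPullback (pullback.fst (pullback.snd f g) hV.fromSpec ≫ pullback.fst f g)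
      (pullback.snd (pullback.snd f g) hV.fromSpec) f (a ≫ (𝔸(ULift.{u} (Fin n); Y) ↘ Y)) := by
    rw [hover, hk]
    exact (IsPullback.of_hasPullback (pullback.snd f g) hV.fromSpec).paste_horiz (IsPullback.of_hasPullback f g)
  let L := (IsPullback.of_hasPullback f (𝔸(ULift.{u} (Fin n); Y) ↘ Y)).lift
    (pullback.fst (pullback.snd f g) hV.fromSpec ≫ pullback.fst f g)
    (pullback.snd (pullback.snd f g) hV.fromSpec ≫ a) (by rw [hP.w, Category.assoc])
  have hP' : IsPullback L (pullback.snd (pullback.snd f g) hV.fromSpec)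
      (pullback.snd f (𝔸(ULift.{u} (Fin n); Y) ↘ Y)) a :=
    IsPullback.of_right (by rwa [IsPullback.lift_fst]) (IsPullback.lift_snd _ _ _ _)
      (IsPullback.of_hasPullback f _)
  have hb := isClosedMap_of_isImmersion _ a hP' (H n)
  have himg : pullback.snd (pullback.snd f g) hV.fromSpec ''
      (pullback.fst (pullback.snd f g) hV.fromSpec ⁻¹' C) = hV.fromSpec ⁻¹' (pullback.snd f g '' C) := by
    ext v
    constructor
    · rintro ⟨c, hc, rfl⟩
      exact ⟨_, hc, congrArg (fun φ : _ ⟶ Y' => φ c) pullback.condition⟩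
    · rintro ⟨c, hc, e⟩
      obtain ⟨q, rfl, rfl⟩ := Scheme.Pullback.exists_preimage_pullback c v e
      exact ⟨q, hc, rfl⟩
  have hclosed : IsClosed (hV.fromSpec ⁻¹' (pullback.snd f g '' C)) :=
    himg ▸ hb _ (hC.preimage (Scheme.Hom.continuous _))
  refine ⟨hV.fromSpec '' (hV.fromSpec ⁻¹' (pullback.snd f g '' C))ᶜ, ?_,
    hV.fromSpec.isOpenEmbedding.isOpenMap _ hclosed.isOpen_compl, ?_⟩
  · rintro _ ⟨v, hv, rfl⟩; exact hv
  · obtain ⟨v, rfl⟩ : t' ∈ Set.range hV.fromSpec := by rw [hV.range_fromSpec]; exact htV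
    exact ⟨v, ht', rfl⟩

end Groth.Agent.DVRVal
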